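import Cfsg.Agent.MinIndexForm.SUE.Levels
import Cfsg.Agent.MinIndexForm.SUF.TwoBound

/-!
Orbit bounds at a point in even dimension at least six over the field with four elements.
-/

set_option autoImplicit false

namespace Cfsg.Agent.MinIndexForm.SUT

open Cfsg.Agent.Classical Cfsg.Agent.MinIndexForm.SU Module

/-- The number of non-isotropic points in dimension 2k over four elements. -/
def Na (k : ℕ) : ℕ := 2 ^ (2 * k - 1) * ∑ i ∈ Finset.range k, (2 ^ 2) ^ i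

/-- The bound in dimension 2k. -/
def low (k : ℕ) : ℕ := if k = 2 then 27 else Na k

theorem Na_succ (k : ℕ) (hk : 1 ≤ k) : Na (k + 1) = 2 ^ (4 * k + 1) + 4 * Na k := by
  rw [Na, Na, Finset.sum_range_succ, ← pow_mul, show 2 * (k + 1) - 1 = 2 * k - 1 + 2 by omega,
    show 4 * k + 1 = 2 * k - 1 + 2 + 2 * k by omega, pow_add, pow_add]
  ring

theorem Na_three (k : ℕ) : 3 * Na k = 2 ^ (2 * k - 1) * (2 ^ (2 * k) - 1) := by
  have h := geom_sum_mul_add 3 k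
  rw [Na, ← mul_assoc, mul_comm 3, mul_assoc]
  congr 1
  rw [pow_mul 2 2 k, show (2 : ℕ) ^ 2 = 3 + 1 by norm_num]
  omega

theorem Ne_eq (k : ℕ) : SUE.Ne 2 k = Na k + ∑ i ∈ Finset.range k, (2 ^ 2) ^ i := by
  rw [SUE.Ne, Na]; ring

theorem Na_ge (k : ℕ) (hk : 2 ≤ k) : 2 ^ (2 * k + 1) ≤ Na k := by
  have h1 : 4 ≤ ∑ i ∈ Finset.range k, ((2 : ℕ) ^ 2) ^ i := by
    refine le_trans ?_ (Finset.single_le_sum (f := fun i => ((2 : ℕ) ^ 2) ^ i) (fun _ _ => Nat.zero_le _)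
      (Finset.mem_range.2 (show 1 < k by omega)))
    norm_num
  calc 2 ^ (2 * k + 1) = 2 ^ (2 * k - 1) * 4 := by
        rw [show 2 * k + 1 = 2 * k - 1 + 2 by omega, pow_add]; norm_num
    _ ≤ _ := Nat.mul_le_mul_left _ h1

theorem low_moved (k : ℕ) (hk : 2 ≤ k) : Na (k + 1) ≤ low k * 2 ^ (2 * k) * 2 := by
  rw [Na_succ k (by omega), low]
  split_ifs with h2
  · subst h2; decide
  have h := Na_ge k hk
  have h1 : 2 ^ (4 * k + 1) ≤ Na k * 2 ^ (2 * k) := by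
    calc 2 ^ (4 * k + 1) = 2 ^ (2 * k + 1) * 2 ^ (2 * k) := by rw [← pow_add]; ring_nf
      _ ≤ _ := Nat.mul_le_mul_right _ h
  have h2 : 4 ≤ 2 ^ (2 * k) := le_trans (by norm_num) (Nat.pow_le_pow_right (show 1 ≤ 2 by norm_num) (show 2 ≤ 2 * k by omega))
  have h3 := Nat.mul_le_mul_left (Na k) h2
  omega

theorem low_fixed (k : ℕ) : 4 * Na k ≤ 3 * SUE.Ne 2 k + low k := by
  rw [Ne_eq, low]
  split_ifs with h2
  · subst h2; decide
  · omega

universe uF uV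
variable {F : Type uF} [Field F] [Finite F] {θ : F →+* F}

/-- The induction hypothesis: the bound one step down. -/
def Below (θ : F →+* F) (k : ℕ) : Prop :=
  ∀ (W : Type uV) [AddCommGroup W] [Module F W] [FiniteDimensional F W] (BW : W →ₛₗ[θ] W →ₗ[F] F),
    Herm.IsHerm BW → finrank F W = 2 * k → ∀ H : Subgroup (Herm.suG BW), H ≠ ⊤ → low k ≤ H.index

variable {V : Type uV} [AddCommGroup V] [Module F V] [FiniteDimensional F V] {B : V →ₛₗ[θ] V →ₗ[F] F}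
  (τ : Fr B) (K : Subgroup (Herm.suG B)) (hq : Nat.card (Herm.fixField θ) = 2) {k : ℕ} (hk : 2 ≤ k)
  (hd : finrank F V = 2 * k + 2) (hIH : Below.{uF, uV} θ k)
include hq hk hd hIH

/-- A moved point with a small Levi part. -/
theorem moved_ge (hZ : τ.Zp K ≠ ⊤) (hI : τ.I1 K ≠ ⊤) : Na (k + 1) ≤ K.relIndex τ.P := by
  have hdW : finrank F τ.W = 2 * k := by have := τ.finrank_W; omega
  rw [τ.relIndex_P K (by omega)]
  have hw := τ.Sb_index_ge K hdW hZ
  have htz := SUE.tz_ge τ K hZ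
  have hi := hIH τ.W τ.BW τ.hB_W hdW _ hI
  rw [hq] at hw htz
  calc Na (k + 1) ≤ low k * 2 ^ (2 * k) * 2 := low_moved k hk
    _ ≤ (τ.I1 K).index * (τ.Sb K).index * ((τ.T2 K).index * (τ.Zp K).index) := by gcongr
    _ = _ := by ring

/-- A fixed point. -/
theorem fixed_ge (hS : τ.Sb K ≠ ⊤) : 4 * Na k ≤ K.relIndex τ.P := by
  classical
  have : Finite τ.W := Module.finite_of_finite F
  have := Fr.finite_su (B := τ.BW)
  have hdW : finrank F τ.W = 2 * k := by have := τ.finrank_W; omega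
  rw [τ.relIndex_P K (by omega)]
  set i := (τ.I1 K).index with hid
  set w := (τ.Sb K).index with hwd
  have hz1 : 1 ≤ (τ.Zp K).index := Nat.pos_of_ne_zero AddSubgroup.index_ne_zero_of_finite
  suffices 4 * Na k ≤ i * w by
    calc _ ≤ 1 * (i * (w * 1)) := by rw [one_mul, mul_one]; exact this
      _ ≤ _ := by gcongr; exact τ.T2_pos K
  obtain ⟨U, hUc, hUinv⟩ := τ.exists_annih K
  rw [← hwd] at hUc
  have hU0 : U ≠ ⊥ := fun h0 => hS (AddSubgroup.index_eq_one.1 (by rw [← hwd, ← hUc, h0, AddSubgroup.card_bot]))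
  have hiso : Nat.card {x : τ.W // x ≠ 0 ∧ τ.BW x x = 0} = 3 * SUE.Ne 2 k := by
    rw [SUE.card_iso τ.hB_W hdW, hq, mul_comm]; norm_num
  have hani : Nat.card {x : τ.W // τ.BW x x = 1} = 3 * Na k := by
    rw [SUE.card_aniso τ.hB_W hdW (map_one θ) one_ne_zero, hq, Na_three]
  have hNe : Na k ≤ SUE.Ne 2 k := by rw [Ne_eq]; exact Nat.le_add_right _ _
  by_cases hI : τ.I1 K = ⊤
  · rw [show i = 1 by rw [hid, hI, Subgroup.index_top], one_mul, ← hUc]
    refine le_trans ?_ (SUE.card_invariant_ge τ.hB_W (by omega) U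
      (fun g x hx => hUinv g (hI ▸ Subgroup.mem_top g) x hx) hU0)
    rw [hiso, hani]
    omega
  have hi : low k ≤ i := hIH τ.W τ.BW τ.hB_W hdW _ hI
  have horb : ∀ (a : F), (∀ x z : τ.W, x ≠ 0 → z ≠ 0 → τ.BW x x = a → τ.BW z z = a →
      ∃ g : Herm.suG τ.BW, g.1 x = z) → (∃ u ∈ U, u ≠ 0 ∧ τ.BW u u = a) →
      Nat.card {x : τ.W // x ≠ 0 ∧ τ.BW x x = a} ≤
        i * Nat.card {x : τ.W // x ∈ U ∧ x ≠ 0 ∧ τ.BW x x = a} := fun a htr ⟨u, hu, hu'⟩ =>
    orbit_count (B := τ.BW) (C := {x | x ≠ 0 ∧ τ.BW x x = a}) (U := (U : Set τ.W))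
      (fun g x hx => norm_inv _ g hx) (fun x hx z hz => htr x z hx.1 hz.1 hx.2 hz.2) (τ.I1 K) hUinv
      ⟨u, hu, hu'⟩
  set c0 := Nat.card {x : τ.W // x ∈ U ∧ x ≠ 0 ∧ τ.BW x x = 0} with hc0
  set c1 := Nat.card {x : τ.W // x ∈ U ∧ x ≠ 0 ∧ τ.BW x x = 1} with hc1
  have hsum : c0 + c1 + 1 ≤ w := by
    rw [← hUc, hc0, hc1, ← Nat.card_sum, ← Finite.card_option]
    refine Nat.card_le_card_of_injective (fun o => o.elim (0 : U) (Sum.elim (fun x => ⟨x.1, x.2.1⟩)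
      fun x => ⟨x.1, x.2.1⟩)) ?_
    rintro (_ | x | x) (_ | z | z) e
    · rfl
    · exact absurd (congrArg Subtype.val e :).symm z.2.2.1
    · exact absurd (congrArg Subtype.val e :).symm z.2.2.1
    · exact absurd (congrArg Subtype.val e :) x.2.2.1
    · exact congrArg _ (congrArg _ (Subtype.ext (congrArg Subtype.val e :)))
    · have e' : x.1 = z.1 := congrArg Subtype.val e
      exact absurd x.2.2.2 (by rw [e', z.2.2.2]; exact one_ne_zero)
    · exact absurd (congrArg Subtype.val e :) x.2.2.1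
    · have e' : x.1 = z.1 := congrArg Subtype.val e
      exact absurd x.2.2.2 (by rw [e', z.2.2.2]; exact zero_ne_one)
    · exact congrArg _ (congrArg _ (Subtype.ext (congrArg Subtype.val e :)))
  have hmul := Nat.mul_le_mul_left i hsum
  rw [Nat.mul_add, Nat.mul_add, mul_one] at hmul
  have h1 : (∃ u ∈ U, u ≠ 0 ∧ τ.BW u u = 1) → 3 * Na k ≤ i * c1 := fun hex => by
    refine le_trans (le_of_eq ?_) (horb 1 (fun x z _ _ hx hz =>
      trans_aniso τ.hB_W (by omega) (by rw [hz]; exact one_ne_zero) (hx.trans hz.symm)) hex)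
    rw [SUE.card_class_aniso one_ne_zero, hani]
  have h0 : (∃ u ∈ U, u ≠ 0 ∧ τ.BW u u = 0) → 3 * SUE.Ne 2 k ≤ i * c0 := fun hex =>
    le_trans (le_of_eq hiso.symm) (horb 0 (fun x z hx0 hz0 hx hz =>
      trans_iso τ.hB_W (by omega) hx0 hx hz0 hz) hex)
  by_cases he0 : ∃ u ∈ U, u ≠ 0 ∧ τ.BW u u = 0
  · have := h0 he0
    have := low_fixed k
    omega
  push Not at he0
  have hall : ∀ x ∈ U, x ≠ 0 → τ.BW x x = 1 := fun x hx hx0 =>
    (SUF.fix_cases hq (Herm.fix_self τ.hB_W x)).resolve_left (he0 x hx hx0)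
  obtain ⟨u, hu, hu0⟩ : ∃ u ∈ U, u ≠ 0 := by
    by_contra hc; push Not at hc; exact hU0 ((AddSubgroup.eq_bot_iff_forall _).2 hc)
  have := h1 ⟨u, hu, hu0, hall u hu hu0⟩
  have hw4 : w ≤ 4 := hUc ▸ SUE.card_one_norm U one_ne_zero hall
  have : 4 * (i * c1) ≤ 3 * (i * (c1 + 1)) := by
    calc 4 * (i * c1) = i * (4 * c1) := by ring
      _ ≤ i * (3 * (c1 + 1)) := Nat.mul_le_mul_left _ (by omega)
      _ = _ := by ring
  rw [Nat.mul_add i c1, mul_one] at this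
  omega

end Cfsg.Agent.MinIndexForm.SUT
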