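import Cfsg.Agent.MinIndexForm.SUT.Root

/-!
The least index of a proper subgroup of a special unitary group over four elements in even dimension at least six,
and the stabiliser of a non-isotropic point, which attains it.
-/

set_option autoImplicit false

namespace Cfsg.Agent.MinIndexForm.SUT

open Cfsg.Agent.Classical Cfsg.Agent.MinIndexForm.SU Module

universe uF uV
variable {F : Type uF} [Field F] [Finite F] {θ : F →+* F} {V : Type uV} [AddCommGroup V] [Module F V]
  [FiniteDimensional F V] {B : V →ₛₗ[θ] V →ₗ[F] F}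

/-- The bound, one dimension step. -/
theorem index_step (hq : Nat.card (Herm.fixField θ) = 2) (h : Herm.IsHerm B) {k : ℕ} (hk : 2 ≤ k)
    (hd : finrank F V = 2 * k + 2) (hIH : Below.{uF, uV} θ k) (H : Subgroup (Herm.suG B)) (hH : H ≠ ⊤) :
    Na (k + 1) ≤ H.index := by
  classical
  have := Fr.finite_su (B := B)
  by_contra hlt
  push Not at hlt
  have hmv : ∀ (K : Subgroup (Herm.suG B)), K.index = H.index → ∀ τ : Fr B, τ.Zp K ≠ ⊤ →
      τ.I1 K = ⊤ ∧ τ.Sb K = ⊥ := fun K hK τ hZ => by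
    have hI : τ.I1 K = ⊤ := by
      by_contra hI
      have := (moved_ge τ K hq hk hd hIH hZ hI).trans (τ.relIndex_le_index K)
      omega
    exact ⟨hI, SUE.Sb_eq_bot τ K hk hd hZ hI⟩
  obtain ⟨v, hv0, hvv, hv⟩ : ∃ v : V, v ≠ 0 ∧ B v v = 0 ∧ ¬HasRoot H v := by
    by_contra hc
    push Not at hc
    exact hH (eq_top_of_roots h (by omega) (.inr (by omega)) hc)
  obtain ⟨τ, rfl⟩ := exists_frame h hv0 hvv
  rw [τ.hasRoot_iff] at hv
  obtain ⟨hI, hS⟩ := hmv H rfl τ hv
  obtain ⟨w, hw0, hww, hw⟩ := exists_root hq hk hd τ hI hS fun s σ hσ => (hmv _ (index_conjS s H) σ hσ).2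
  obtain ⟨ρ, hρ, hρS⟩ := exists_proper hq hk hd h hH hw0 hww hw fun σ hσ => (hmv H rfl σ hσ).2
  have h1 := SUE.moved_top τ H hk hd hv hI
  rw [hq] at h1
  have h2 := fixed_ge ρ H hq hk hd hIH hρS
  obtain ⟨g, hg⟩ := trans_iso h (by omega) ρ.y_ne ρ.hyy τ.y_ne τ.hyy
  have h3 := SUF.two_orbits τ (SUF.Zp_eq_bot h.toIsInvol hq hv) (g := g) (by
    rw [SUF.Zp_conjS ρ τ hg, ρ.hasRoot_iff.1 hρ]
    intro e
    exact hv (eq_top_iff.2 fun c _ => by
      have hc : c ∈ (⊥ : AddSubgroup (skew θ)) := e ▸ AddSubgroup.mem_top c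
      rw [AddSubgroup.mem_bot.1 hc]
      exact AddSubgroup.zero_mem _))
  rw [SUF.relIndex_conjS ρ τ hg] at h3
  rw [Na_succ k (by omega)] at hlt
  omega

theorem below_all (hq : Nat.card (Herm.fixField θ) = 2) : ∀ k, 2 ≤ k → Below.{uF, uV} θ k := by
  intro k hk
  induction k, hk using Nat.le_induction with
  | base =>
    intro W _ _ _ BW hB hdW H hH
    simpa [low] using SUF.bound_two hq hB hdW H hH
  | succ k hk ih =>
    intro W _ _ _ BW hB hdW H hH
    rw [low, if_neg (by omega)]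
    exact index_step hq hB hk (by omega) ih H hH

/-- The bound in every even dimension from six on. -/
theorem index_bound (hq : Nat.card (Herm.fixField θ) = 2) (h : Herm.IsHerm B) {k : ℕ} (hk : 3 ≤ k)
    (hd : finrank F V = 2 * k) (H : Subgroup (Herm.suG B)) (hH : H ≠ ⊤) : Na k ≤ H.index := by
  have h1 := below_all.{uF, uV} hq k (by omega) V B h hd H hH
  rwa [low, if_neg (by omega)] at h1

omit [Finite F] [FiniteDimensional F V] in
/-- The stabiliser of a point. -/
def pointStab (v : V) : Subgroup (Herm.suG B) where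
  carrier := {g | ∃ a : Fˣ, g.1 v = (a : F) • v}
  one_mem' := ⟨1, by simp⟩
  mul_mem' := by
    rintro g h ⟨a, ha⟩ ⟨b, hb⟩
    exact ⟨b * a, by rw [Subgroup.coe_mul, LinearEquiv.mul_apply, hb, map_smul, ha, smul_smul, Units.val_mul]⟩
  inv_mem' := by
    rintro g ⟨a, ha⟩
    refine ⟨a⁻¹, ?_⟩
    have := congrArg (fun x => ((a⁻¹ : Fˣ) : F) • (g⁻¹).1 x) ha
    simp only [map_smul, smul_smul, Units.inv_mul, one_smul, Subgroup.coe_inv, Herm.inv_apply_self'] at this
    exact this.symm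

/-- The number of non-isotropic points. -/
theorem index_pointStab (hq : Nat.card (Herm.fixField θ) = 2) (h : Herm.IsHerm B) {k : ℕ} (hk : 2 ≤ k)
    (hd : finrank F V = 2 * k) {v : V} (hv : B v v = 1) : (pointStab (B := B) v).index = Na k := by
  classical
  have : Finite V := Module.finite_of_finite F
  have := Fr.finite_su (B := B)
  have hθ := h.toIsInvol
  have hv0 : v ≠ 0 := fun e => by simp [e] at hv
  have hn : ∀ a : Fˣ, (a : F) * θ a = 1 := fun a => by
    rw [SUF.theta_sq hθ hq]; linear_combination SUF.cube hθ hq a.ne_zero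
  set L := pointStab (B := B) v with hL
  have hnorm : ∀ (g : Herm.suG B) (a : Fˣ), B ((a : F) • g.1 v) ((a : F) • g.1 v) = 1 := fun g a => by
    rw [Herm.smul_self h, g.2.1, hv, mul_one, hn]
  let f : (Herm.suG B ⧸ L) × Fˣ → {x : V // B x x = 1} := fun p => ⟨(p.2 : F) • p.1.out.1 v, hnorm _ _⟩
  have hbij : Function.Bijective f := by
    refine ⟨fun p p' e => ?_, fun x => ?_⟩
    · have e' : (p.2 : F) • p.1.out.1 v = (p'.2 : F) • p'.1.out.1 v := congrArg Subtype.val e
      have e1 : p.1 = p'.1 := by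
        rw [← p.1.out_eq, ← p'.1.out_eq]
        refine QuotientGroup.eq.2 ⟨p'.2⁻¹ * p.2, ?_⟩
        have e2 := congrArg (fun z => ((p'.2⁻¹ : Fˣ) : F) • z) e'
        simp only [smul_smul, Units.inv_mul, one_smul] at e2
        rw [Subgroup.coe_mul, LinearEquiv.mul_apply, ← e2, map_smul, Units.val_mul, Subgroup.coe_inv,
          Herm.inv_apply_self']
      refine Prod.ext e1 (Units.ext (smul_left_injective F (fun e0 => hv0 (p'.1.out.1.map_eq_zero_iff.1 e0)) ?_))
      rw [e1] at e'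
      exact e'
    · obtain ⟨g, hg⟩ := trans_aniso h (by omega) (u := v) (w := x.1) (by rw [x.2]; exact one_ne_zero)
        (hv.trans x.2.symm)
      obtain ⟨l, hl⟩ := QuotientGroup.mk_out_eq_mul L g
      obtain ⟨b, hb⟩ := l.2
      refine ⟨((g : Herm.suG B ⧸ L), b⁻¹), Subtype.ext ?_⟩
      show ((b⁻¹ : Fˣ) : F) • (Quotient.out (g : Herm.suG B ⧸ L)).1 v = x.1
      rw [hl, Subgroup.coe_mul, LinearEquiv.mul_apply, hb, map_smul, hg, smul_smul, Units.inv_mul, one_smul]
  have hc := Nat.card_eq_of_bijective f hbij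
  rw [Nat.card_prod, SUE.card_aniso h hd (map_one θ) one_ne_zero, hq, ← Na_three, Nat.card_units,
    SUF.card_field hθ hq] at hc
  rw [Subgroup.index]
  omega

end Cfsg.Agent.MinIndexForm.SUT
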