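import Cfsg.Agent.MinIndexForm.SUT.Levels

/-!
Transvection groups inside a subgroup whose moved points have full Levi part.
-/

set_option autoImplicit false

namespace Cfsg.Agent.MinIndexForm.SUT

open Cfsg.Agent.Classical Cfsg.Agent.MinIndexForm.SU Module

universe uF uV
variable {F : Type uF} {V : Type uV} [Field F] [AddCommGroup V] [Module F V] {θ : F →+* F}
  {B : V →ₛₗ[θ] V →ₗ[F] F} [Finite F] [FiniteDimensional F V]

theorem prod_exp (ω : F) (h3 : ω ^ 3 = 1) : ∀ l, ∏ i ∈ Finset.range (2 * l + 4),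
    (if i < 2 then ω else if i < 4 then ω ^ 2 else if Even i then ω else ω ^ 2) = 1 := by
  intro l
  induction l with
  | zero =>
    rw [Finset.prod_range_succ, Finset.prod_range_succ, Finset.prod_range_succ, Finset.prod_range_succ,
      Finset.prod_range_zero]
    simp only [show (0 : ℕ) < 2 by norm_num, show (1 : ℕ) < 2 by norm_num, show ¬(2 : ℕ) < 2 by norm_num,
      show (2 : ℕ) < 4 by norm_num, show ¬(3 : ℕ) < 2 by norm_num, show (3 : ℕ) < 4 by norm_num, if_true, if_false]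
    linear_combination (ω ^ 3 + 1) * h3
  | succ l ih =>
    rw [show 2 * (l + 1) + 4 = 2 * l + 4 + 1 + 1 by ring, Finset.prod_range_succ, Finset.prod_range_succ, ih,
      if_neg (by omega), if_neg (by omega), if_pos (by simp [parity_simps]), if_neg (by omega), if_neg (by omega),
      if_neg (by simp [parity_simps]), one_mul, ← pow_succ', h3]

variable (hq : Nat.card (Herm.fixField θ) = 2)
include hq

/-- The only non-trivial element of a transvection group. -/
theorem hasRoot_of_one (hθ : Herm.IsInvol θ) {K : Subgroup (Herm.suG B)} {a : V} {g : Herm.suG B} (hg : g ∈ K)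
    (hga : ∀ x, g.1 x = x + B a x • a) : HasRoot K a := by
  rintro t ⟨c, hc, ht⟩
  rcases SUF.fix_cases hq ((SUF.mem_skew_two hθ hq).1 (mem_skew.2 hc)) with rfl | rfl
  · rw [show t = 1 from Subtype.ext (LinearEquiv.ext fun x => by simp [ht])]
    exact K.one_mem
  · rw [show t = g from Subtype.ext (LinearEquiv.ext fun x => by simp [ht, hga])]
    exact hg

variable {k : ℕ} (hk : 2 ≤ k) (hd : finrank F V = 2 * k + 2)
include hk hd

/-- A root group exists, when every moved point has full Levi part and no vector part. -/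
theorem exists_root (τ : Fr B) {H : Subgroup (Herm.suG B)} (hI : τ.I1 H = ⊤) (hS : τ.Sb H = ⊥)
    (hmv : ∀ (s : Herm.suG B) (σ : Fr B), σ.Zp (conjS s H) ≠ ⊤ → σ.Sb (conjS s H) = ⊥) :
    ∃ v : V, v ≠ 0 ∧ B v v = 0 ∧ HasRoot H v := by
  have hθ := τ.hB.toIsInvol
  have h2 := SUF.two_zero hθ hq
  have hdW : finrank F τ.W = 2 * (k - 2) + 4 := by have := τ.finrank_W; omega
  obtain ⟨b0, hb0⟩ := Herm.exists_moved hθ
  obtain ⟨ω, hω0, hω1⟩ : ∃ ω : F, ω ≠ 0 ∧ ω ≠ 1 :=
    ⟨b0, fun e => hb0 (by rw [e, map_zero]), fun e => hb0 (by rw [e, map_one])⟩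
  have h3 : ω ^ 3 = 1 := by linear_combination SUF.cube hθ hq hω0
  let δ : Fin (2 * (k - 2) + 4) → F := fun i =>
    if i.1 < 2 then ω else if i.1 < 4 then ω ^ 2 else if Even i.1 then ω else ω ^ 2
  have hδ : ∀ i, δ i = ω ∨ δ i = ω ^ 2 := fun i => by
    simp only [δ]
    split_ifs <;> simp
  have hδn : ∀ i, δ i * θ (δ i) = 1 := fun i => by
    have h0 : δ i ≠ 0 := by rcases hδ i with e | e <;> rw [e] <;> simp [hω0]
    rw [SUF.theta_sq hθ hq]; linear_combination SUF.cube hθ hq h0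
  obtain ⟨bas, g, hON, hg, hgb, hdet⟩ := exists_diag τ.hB_W hdW δ hδn
  have hm : g ∈ Herm.suG τ.BW := ⟨hg, Units.ext (by
    rw [hdet, Fin.prod_univ_eq_prod_range
      (fun i => if i < 2 then ω else if i < 4 then ω ^ 2 else if Even i then ω else ω ^ 2),
      prod_exp ω h3, Units.val_one])⟩
  set h : Herm.suG τ.BW := ⟨g, hm⟩ with hh0
  have hfree : ∀ u : τ.W, h.1 u = u → u = 0 := fun u hu => fixfree_diag bas (g := (g : τ.W →ₗ[F] τ.W)) hgb
    (fun i e => by
      rcases hδ i with e' | e' <;> rw [e'] at e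
      · exact hω1 e
      · exact hω1 (by rw [pow_succ, e, one_mul] at h3; exact h3)) hu
  obtain ⟨s, c0, hS', hI', hh⟩ := τ.normalise hS hI hfree
  suffices ∃ v : V, v ≠ 0 ∧ B v v = 0 ∧ HasRoot (conjS s H) v by
    obtain ⟨v, hv0, hvv, hv⟩ := this
    exact ⟨_, fun e => hv0 ((s⁻¹).1.map_eq_zero_iff.1 e), by rw [(s⁻¹).2.1]; exact hvv, hasRoot_of_conjS hv⟩
  set K := conjS s H with hK
  have hB : ∀ i j, τ.BW (bas i) (bas j) = if i = j then 1 else 0 := hON
  let i0 : Fin (2 * (k - 2) + 4) := ⟨0, by omega⟩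
  let i1 : Fin (2 * (k - 2) + 4) := ⟨1, by omega⟩
  have n01 : i0 ≠ i1 := by simp [i0, i1]
  set a := bas i0 + bas i1 with ha
  have haa : τ.BW a a = 0 := by
    simp [ha, hB, n01, Ne.symm n01]; linear_combination h2
  have ha0 : a ≠ 0 := fun e => by
    have h1 := congrArg (τ.BW (bas i0)) e
    simp [ha, hB, n01] at h1
  have haω : g a = ω • a := by
    rw [ha, map_add, hgb, hgb, smul_add]
    simp [δ, i0, i1]
  have hone : (1 : F) + θ 1 = 0 := by rw [map_one]; linear_combination h2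
  set T : Herm.suG τ.BW := ⟨Herm.tvU haa 1, Herm.tvU_mem τ.hB_W haa hone⟩ with hT
  have hTa : ∀ x, T.1 x = x + τ.BW a x • a := fun x => by
    show Herm.tvU haa 1 x = _
    rw [Herm.tvU_apply, one_mul]
  have hcomm : h * T = T * h := by
    refine Subtype.ext (LinearEquiv.ext fun x => ?_)
    simp only [Subgroup.coe_mul, LinearEquiv.mul_apply, hTa]
    show g (x + τ.BW a x • a) = g x + τ.BW a (g x) • a
    have e : τ.BW a (g x) = ω * τ.BW a x := by
      have := hg a x
      rw [haω, map_smulₛₗ, LinearMap.smul_apply, smul_eq_mul, SUF.theta_sq hθ hq] at this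
      linear_combination ω * this - τ.BW a (g x) * h3
    rw [map_add, map_smul, haω, e, smul_smul, mul_comm]
  obtain ⟨u, c, hc, hl⟩ := τ.exists_lift (l := T) (hI' ▸ Subgroup.mem_top _)
  obtain ⟨hc', hl'⟩ := τ.conj_lift hS' hh hl
  rw [hcomm, mul_inv_cancel_right] at hl'
  obtain rfl : u = 0 := hfree u (τ.lift_unique hS' hl hl').symm
  have hav : B (a : V) (a : V) = 0 := haa
  have ha0' : (a : V) ≠ 0 := fun e => ha0 (Subtype.ext e)
  have hemb : ∀ X, (τ.emb T).1 X = X + B (a : V) X • (a : V) := fun X => by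
    conv_lhs => rw [τ.decomp X]
    rw [map_add, map_add, map_smul, map_smul, τ.emb_W, τ.emb_y, τ.emb_f, hTa]
    conv_rhs => arg 1; rw [τ.decomp X]
    rw [Submodule.coe_add, Submodule.coe_smul, τ.BW_apply, τ.pr_B]
    abel
  have hcs : c ∈ skew θ := mem_skew.2 (by simpa using hc)
  rcases SUF.fix_cases hq ((SUF.mem_skew_two hθ hq).1 hcs) with rfl | rfl
  · rw [τ.sh_zero, mul_one] at hl
    exact ⟨_, ha0', hav, hasRoot_of_one hq hθ hl hemb⟩
  have hBya : B τ.y (a : V) = 0 := τ.By a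
  have hBay : B (a : V) τ.y = 0 := τ.Bwy a
  set p := (a : V) + τ.y with hp
  have hpp : B p p = 0 := by simp [hp, hav, hBya, hBay, τ.hyy]
  have hp0 : p ≠ 0 := fun e => by
    have := congrArg (B τ.f) e
    simp [hp, τ.Bf, τ.hfy] at this
  obtain ⟨σ, hσ⟩ := exists_frame τ.hB hp0 hpp
  have hσa : B σ.y (a : V) = 0 := by rw [hσ]; simp [hp, hav, hBya]
  set r := B σ.f (a : V)
  set u' := σ.pr (a : V) with hu'
  have hadec : (a : V) = (u' : V) + r • p := by
    conv_lhs => rw [σ.decomp (a : V), hσa, zero_smul, add_zero, hσ]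
  have hu0 : u' ≠ 0 := fun e => by
    rw [e, Submodule.coe_zero, zero_add] at hadec
    have h1 := congrArg (B τ.f) hadec
    simp [hp, τ.Bf, τ.hfy] at h1
    rw [← h1, zero_smul] at hadec
    exact ha0' hadec
  have hu1 : B σ.y (u' : V) = 0 := σ.By _
  have hu2 : B (u' : V) σ.y = 0 := σ.Bwy _
  rw [hσ] at hu1 hu2
  have huu : B (u' : V) (u' : V) = 0 := by
    have := hav
    rw [hadec] at this
    simp [hu1, hu2, hpp] at this
    exact this
  have hcond : θ r + r + 1 + θ (θ r + r + 1) = -B (u' : V) (u' : V) := by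
    rw [huu, map_add, map_add, map_one, hθ.invol]; linear_combination (θ r + r + 1) * h2
  have hel : τ.emb T * τ.sh 0 1 hc = σ.sh u' (θ r + r + 1) hcond := by
    refine Subtype.ext (LinearEquiv.ext fun X => ?_)
    rw [Subgroup.coe_mul, LinearEquiv.mul_apply, hemb, τ.sh_coe, σ.sh_coe, hσ]
    have hy : τ.y = p + (a : V) := by
      rw [hp, add_comm (a : V), add_assoc, ← two_smul F, h2, zero_smul, add_zero]
    simp only [Submodule.coe_zero, map_zero, LinearMap.zero_apply, map_add, map_smul, hBay, smul_zero, add_zero,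
      sub_zero, one_mul, smul_eq_mul, mul_zero]
    rw [hy, map_add, LinearMap.add_apply, hadec]
    simp only [map_add, map_smulₛₗ, LinearMap.add_apply, LinearMap.smul_apply, smul_eq_mul]
    match_scalars <;> grind
  rw [hel] at hl
  have hne : σ.Sb K ≠ ⊥ := fun e => hu0 (by
    have : u' ∈ σ.Sb K := ⟨_, _, hl⟩
    rwa [e, AddSubgroup.mem_bot] at this)
  exact ⟨p, hp0, hpp, hσ ▸ σ.hasRoot_iff.2 (by_contra fun e => hne (hmv s σ e))⟩

/-- A root point with a proper vector part, when every moved point has no vector part. -/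
theorem exists_proper (h : Herm.IsHerm B) {H : Subgroup (Herm.suG B)} (hH : H ≠ ⊤) {v : V} (hv0 : v ≠ 0)
    (hvv : B v v = 0) (hv : HasRoot H v) (hmv : ∀ σ : Fr B, σ.Zp H ≠ ⊤ → σ.Sb H = ⊥) :
    ∃ ρ : Fr B, HasRoot H ρ.y ∧ ρ.Sb H ≠ ⊤ := by
  by_contra hc
  push Not at hc
  obtain ⟨σ, rfl⟩ := exists_frame h hv0 hvv
  have hS := hc σ hv
  have hZ := σ.hasRoot_iff.1 hv
  obtain ⟨e, he0, hee⟩ := Herm.exists_isotropic σ.hB_W (by have := σ.finrank_W; omega)
  obtain ⟨π, hπ⟩ := exists_frame σ.hB_W he0 hee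
  suffices hr : ∀ x : σ.W, σ.BW x x = 0 → x ≠ 0 → HasRoot H (x : V) by
    obtain ⟨ρ, hρ, hρS⟩ := exists_fixed_frame h (by omega) (by omega) hH (a := (π.y : V)) (b := (π.f : V))
      π.hyy π.hff (by rw [← σ.BW_apply, π.hyf]; exact one_ne_zero) (hr _ π.hyy π.y_ne)
      (hr _ π.hff fun e0 => by simpa [e0] using π.hyf)
    exact hρS (hc ρ hρ)
  intro x hxx hx0
  have hxx' : B (x : V) (x : V) = 0 := hxx
  have hcx : (0 : F) + θ 0 = -B (x : V) (x : V) := by simp [hxx']
  have hm := σ.sh_mem hS hZ x 0 hcx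
  obtain ⟨τ, hτ⟩ := exists_frame h (fun e0 : (x : V) = 0 => hx0 (Subtype.ext e0)) hxx'
  have hys : B τ.y σ.y = 0 := by rw [hτ]; exact σ.Bwy x
  set γ := B τ.f σ.y
  set u' := τ.pr σ.y with hu'
  have hsdec : σ.y = (u' : V) + γ • (x : V) := by
    conv_lhs => rw [τ.decomp σ.y, hys, zero_smul, add_zero, hτ]
  have hu0 : u' ≠ 0 := fun e0 => by
    rw [e0, Submodule.coe_zero, zero_add] at hsdec
    have := congrArg (B σ.f) hsdec
    simp [σ.hfy, σ.Bf] at this
  have hu1 : B τ.y (u' : V) = 0 := τ.By _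
  have hu2 : B (u' : V) τ.y = 0 := τ.Bwy _
  rw [hτ] at hu1 hu2
  have huu : B (u' : V) (u' : V) = 0 := by
    have := σ.hyy
    rw [hsdec] at this
    simp [hu1, hu2, hxx'] at this
    exact this
  have hcond : θ γ - γ + θ (θ γ - γ) = -B ((-u' : τ.W) : V) ((-u' : τ.W) : V) := by
    simp [huu, h.invol]
  have hel : σ.sh x 0 hcx = τ.sh (-u') (θ γ - γ) hcond := by
    refine Subtype.ext (LinearEquiv.ext fun X => ?_)
    rw [σ.sh_coe, τ.sh_coe, hτ, hsdec]
    simp only [Submodule.coe_neg, map_neg, map_add, map_smulₛₗ, LinearMap.add_apply, LinearMap.neg_apply,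
      LinearMap.smul_apply, smul_eq_mul, zero_mul, zero_sub, sub_neg_eq_add]
    module
  rw [hel] at hm
  have hne : τ.Sb H ≠ ⊥ := fun e0 => hu0 (by
    have : -u' ∈ τ.Sb H := ⟨_, _, hm⟩
    rwa [e0, AddSubgroup.mem_bot, neg_eq_zero] at this)
  exact hτ ▸ τ.hasRoot_iff.2 (by_contra fun e0 => hne (hmv τ e0))

end Cfsg.Agent.MinIndexForm.SUT
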